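import Cfsg.Agent.FGS.LF.Defs

/-! Basic facts on the minimal counterexample (the `Min` and `Max` half of `LF/Bas`). -/

open Subgroup
open scoped Pointwise commutatorElement

namespace CL.LF.BasM

variable {G : Type*} [Group G] {t : G} {M B : Subgroup G}

theorem cc (g g' : G) (A : Subgroup G) :
    MulAut.conj g • MulAut.conj g' • A = MulAut.conj (g * g') • A := by
  rw [map_mul, mul_smul]

theorem ci (g : G) (A : Subgroup G) : MulAut.conj g⁻¹ • MulAut.conj g • A = A := by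
  rw [map_inv, inv_smul_smul]

theorem ic (g : G) (A : Subgroup G) : MulAut.conj g • MulAut.conj g⁻¹ • A = A := by
  rw [map_inv, smul_inv_smul]

theorem mem (h : Min t M) : t ∈ M := h.Kle (subset_closure (Set.mem_insert _ _))

theorem normalizer_eq (h : Min t M) : normalizer (M : Set G) = M := by
  refine (h.coatom.le_iff.1 le_normalizer).resolve_left fun e => h.ne ?_
  exact mem_bot.1 (h.core M (normalizer_eq_top_iff.1 e) le_rfl ▸ mem h)

theorem conj_eq_iff (h : Min t M) (g : G) : MulAut.conj g • M = M ↔ g ∈ M := by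
  rw [← mem_normalizer_iff_conj_smul_eq, normalizer_eq h]

theorem conj_coatom (h : Min t M) (g : G) : IsCoatom (MulAut.conj g • M) :=
  ((OrderIso.isCoatom_iff (MulEquiv.mapSubgroup (MulAut.conj g)) M).2 h.coatom :)

theorem conj_eq_of_le (h : Min t M) {g g' : G} (hle : MulAut.conj g • M ≤ MulAut.conj g' • M) :
    MulAut.conj g • M = MulAut.conj g' • M :=
  (((conj_coatom h g).le_iff.1 hle).resolve_left (conj_coatom h g').1).symm

theorem normalizer_ne_top (h : Min t M) {g : G} {C : Subgroup G} (hC : C ≠ ⊥)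
    (hle : C ≤ MulAut.conj g • M) : normalizer (C : Set G) ≠ ⊤ := fun e => by
  refine hC (h.core C (normalizer_eq_top_iff.1 e) ?_)
  rw [← mem_normalizer_iff_conj_smul_eq.1 (e.ge (mem_top g)), pointwise_smul_le_pointwise_smul_iff] at hle
  exact hle

theorem eq_bot_of_conj_le [Finite G] (h : Min t M) {g : G} (hg : g ∉ M) {C : Subgroup G}
    (hC : C ≤ M) (hn : M ≤ normalizer (C : Set G)) (hle : MulAut.conj g • C ≤ C) : C = ⊥ := by
  refine h.core C (normalizer_eq_top_iff.1 ((h.coatom.le_iff.1 hn).resolve_right fun e => hg ?_)) hC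
  exact e ▸ mem_normalizer_iff_conj_smul_eq.2 (conj_smul_eq_of_le hle)

theorem memB (h : Max t M B) : t ∈ B := h.KB.le (subset_closure (Set.mem_insert _ _))

theorem B_le (h : Max t M B) : B ≤ M :=
  h.KB.ge.trans (le_trans (Subgroup.closure_mono (Set.insert_subset_insert
    (show J B t ⊆ J ⊤ t from fun _ hw => ⟨mem_top _, hw.2⟩))) h.Kle)

theorem B_ne_bot (h : Max t M B) : B ≠ ⊥ := fun e => h.ne (mem_bot.1 (e ▸ memB h))

theorem snIn (h : Max t M B) {L : Subgroup G} (hL : L ≠ ⊤) (hB : B ≤ L) (hM : ¬ L ≤ M) :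
    SnIn L B :=
  h.maxl L hL hB hM ▸ h.sn L t hL (hB (memB h)) h.sq

theorem snIn_conj (h : Max t M B) {g : G} {L : Subgroup G} (hL : L ≠ ⊤)
    (hB : MulAut.conj g • B ≤ L) (hM : ¬ L ≤ MulAut.conj g • M) :
    SnIn L (MulAut.conj g • B) := by
  obtain ⟨L, rfl⟩ : ∃ L', L = MulAut.conj g • L' := ⟨_, (ic g L).symm⟩
  rw [pointwise_smul_le_pointwise_smul_iff] at hB hM
  refine (snIn h (fun e => hL ?_) hB hM).conj_smul g
  rw [e]
  exact mem_normalizer_iff_conj_smul_eq.1 (le_normalizer (mem_top g))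

theorem snIn_of_mem_X (h : Max t M B) {g : G} {U : Subgroup G}
    (hU : U ∈ X M B (MulAut.conj g • M)) : SnIn (MulAut.conj g • M) U := by
  obtain ⟨g', rfl, h1, h2⟩ := hU
  exact snIn_conj h (conj_coatom h.toMin g).1 h1 fun e => h2 (conj_eq_of_le h.toMin e).symm

theorem conj_mem_X' (g : G) {N U : Subgroup G} (hU : U ∈ X M B N) :
    MulAut.conj g • U ∈ X M B (MulAut.conj g • N) := by
  obtain ⟨g', rfl, h1, h2⟩ := hU
  refine ⟨g * g', cc _ _ _, pointwise_smul_le_pointwise_smul_iff.2 h1, fun e => h2 ?_⟩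
  rw [← cc] at e
  exact smul_left_cancel _ e

theorem conj_mem_X {N U : Subgroup G} (hU : U ∈ X M B N) {n : G} (hn : n ∈ N) :
    MulAut.conj n • U ∈ X M B N := by
  have := conj_mem_X' n hU
  rwa [mem_normalizer_iff_conj_smul_eq.1 (le_normalizer hn)] at this

theorem conj_X (g : G) (N : Subgroup G) :
    sSup (X M B (MulAut.conj g • N)) = MulAut.conj g • sSup (X M B N) := by
  rw [conj_smul_sSup]
  refine congrArg sSup (Set.ext fun U => ⟨fun hU => ⟨_, ?_, ic g U⟩, ?_⟩)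
  · have := conj_mem_X' g⁻¹ hU
    rwa [ci] at this
  · rintro ⟨U, hU, rfl⟩
    exact conj_mem_X' g hU

theorem step {L A : Subgroup G} (hA : SnIn L A) (hM : ¬ L ≤ M) (hle : A ≤ M) :
    ∃ g ∈ L, g ∉ M ∧ ∃ A', A ≤ A' ∧ A' ≤ M ∧ g ∈ normalizer (A' : Set G) := by
  induction hA with
  | refl => exact absurd hle hM
  | @step H K hHK hn hK ih =>
    by_cases e : K ≤ M
    · obtain ⟨g, h1, h2, A', h3, h4⟩ := ih e
      exact ⟨g, h1, h2, A', hHK.trans h3, h4⟩
    · obtain ⟨g, h1, h2⟩ := SetLike.not_le_iff_exists.1 e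
      exact ⟨g, hK.le h1, h2, H, le_rfl, hle, hn h1⟩

theorem exists_g (h : Max t M B) {L : Subgroup G} (hL : L ≠ ⊤) (hB : B ≤ L) (hM : ¬ L ≤ M) :
    ∃ g ∈ L, g ∉ M ∧ MulAut.conj g • B ≤ M ∧ MulAut.conj g⁻¹ • B ≤ M := by
  obtain ⟨g, h1, h2, A, h3, h4, h5⟩ := step (snIn h hL hB hM) hM (B_le h)
  have k : ∀ x ∈ normalizer (A : Set G), MulAut.conj x • B ≤ M := fun x hx =>
    (pointwise_smul_le_pointwise_smul_iff.2 h3).trans ((mem_normalizer_iff_conj_smul_eq.1 hx).le.trans h4)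
  exact ⟨g, h1, h2, k g h5, k _ (inv_mem h5)⟩

end CL.LF.BasM
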