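import Cfsg.Agent.SOLV.Subnormal
import Cfsg.Agent.SIG.FStar

/-!
Definitions for S3264 (odd-product graph on a class of involutions).

Main theorem (T): for every finite group `G` and `t` with `t * t = 1`, the subgroup `K ⊤ t`
generated by `t` and the odd-order elements inverted by `t` is subnormal in `G`.
-/

open Subgroup
open scoped Pointwise commutatorElement

namespace CL.LF

variable {G : Type*} [Group G]

/-- The odd-order elements of `L` inverted by `t`. -/
def J (L : Subgroup G) (t : G) : Set G := {w | w ∈ L ∧ Odd (orderOf w) ∧ t * w * t⁻¹ = w⁻¹}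

/-- `K_t^L = ⟨t, J_L(t)⟩`. -/
def K (L : Subgroup G) (t : G) : Subgroup G := closure (insert t (J L t))

/-- `O²(A)`: generated by the odd-order elements of `A`. -/
def O2 (A : Subgroup G) : Subgroup G := closure {w | w ∈ A ∧ Odd (orderOf w)}

/-- `O^{2'}(A)`: generated by the `2`-elements of `A`. -/
def O2' (A : Subgroup G) : Subgroup G := closure {w | w ∈ A ∧ ∃ k : ℕ, w ^ 2 ^ k = 1}

/-- `N` is a maximal normal subgroup of `A` with non-abelian (simple) quotient. -/
structure MaxS (A N : Subgroup G) : Prop where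
  le : N ≤ A
  norm : A ≤ normalizer (N : Set G)
  nab : ¬ ⁅A, A⁆ ≤ N
  max : ∀ N' : Subgroup G, N ≤ N' → N' ≤ A → A ≤ normalizer (N' : Set G) → N' = N ∨ N' = A

/-- The semisimple residual of `A`. -/
def SR (A : Subgroup G) : Subgroup G := A ⊓ sInf {N | MaxS A N}

/-- The subgroup generated by the non-abelian simple subnormal subgroups of `V`. -/
def SSoc (V : Subgroup G) : Subgroup G :=
  sSup {L | SnIn V L ∧ IsSimpleGroup L ∧ ¬ IsMulCommutative L}

/-- A "residual functor" on the subgroups of `G`. -/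
structure Fn (Φ : Subgroup G → Subgroup G) : Prop where
  le : ∀ A, Φ A ≤ A
  conj : ∀ (g : G) (A : Subgroup G), Φ (MulAut.conj g • A) = MulAut.conj g • Φ A
  sup : ∀ A B : Subgroup G, A ≤ normalizer (B : Set G) → B ≤ normalizer (A : Set G) →
    Φ (A ⊔ B) = Φ A ⊔ Φ B

/-- The radical of `V` for the residual functor `Φ`. -/
def Rad (Φ : Subgroup G → Subgroup G) (V : Subgroup G) : Subgroup G :=
  sSup {N | N ≤ V ∧ V ≤ normalizer (N : Set G) ∧ Φ N = ⊥}

/-- Local hypothesis: `A` contains the centralizer of `x` and a subnormal subgroup through `x`. -/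
structure Loc (x : G) (A : Subgroup G) : Prop where
  sq : x * x = 1
  cent : centralizer ({x} : Set G) ≤ A
  sn : ∃ B : Subgroup G, B.IsSubnormal ∧ x ∈ B ∧ B ≤ A

/-- The minimal counterexample to (T). -/
structure Min (t : G) (M : Subgroup G) : Prop where
  sq : t * t = 1
  ne : t ≠ 1
  sn : ∀ (L : Subgroup G) (s : G), L ≠ ⊤ → s ∈ L → s * s = 1 → SnIn L (K L s)
  coatom : IsCoatom M
  core : ∀ N : Subgroup G, N.Normal → N ≤ M → N = ⊥
  Kle : K ⊤ t ≤ M
  cent : centralizer ({t} : Set G) ≤ M

/-- The minimal counterexample with a maximal `B = K_t^L`, `L` proper, `L ≰ M`. -/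
structure Max (t : G) (M B : Subgroup G) : Prop extends Min t M where
  KB : K B t = B
  maxl : ∀ L : Subgroup G, L ≠ ⊤ → B ≤ L → ¬ L ≤ M → K L t = B
  ex : ∃ L : Subgroup G, L ≠ ⊤ ∧ B ≤ L ∧ ¬ L ≤ M

/-- The conjugates of `B` inside `N` whose own point (conjugate of `M`) is not `N`. -/
def X (M B N : Subgroup G) : Set (Subgroup G) :=
  {U | ∃ g : G, U = MulAut.conj g • B ∧ U ≤ N ∧ MulAut.conj g • M ≠ N}

/-- The conjugates of `B` subnormal in `Z`. -/
def Sn (B Z : Subgroup G) : Set (Subgroup G) :=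
  {U | (∃ g : G, U = MulAut.conj g • B) ∧ SnIn Z U}

end CL.LF
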